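import Groth.Agent.SerreAff.Basic

/-!
# Serre's criterion, relative to an open

An open `P` with compact underlying set is affine as soon as short exact sequences whose kernel is a
quasi-coherent ideal and whose members are quasi-coherent are exact on sections over `P`.
-/

noncomputable section

universe u

open CategoryTheory Limits AlgebraicGeometry Opposite TopologicalSpace Groth.Agent.QCohBase

namespace Groth.Agent.SerreAff

variable {X : Scheme.{u}}

/-- exactness on sections over `P` for kernels which are quasi-coherent ideals -/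
def IdealExactOn (P : X.Opens) : Prop :=
  ∀ T : ShortComplex X.Modules, T.ShortExact →
    ∀ i : T.X₁ ⟶ Coh.structureModule X, Mono i → T.X₁.IsQuasicoherent → Function.Surjective (T.g.app P)

variable {P : X.Opens}

/-- a section over `P` which is locally in the span of given global sections is so over `P` -/
theorem mem_span_on (h : IdealExactOn P) : ∀ (k : ℕ) (M : X.Modules) (_ : M.IsQuasicoherent)
    (m : Fin k → Γ(M, (⊤ : X.Opens))) (s : Γ(M, P)),
    (∀ x ∈ P, ∃ (W : X.Opens) (hW : W ≤ P), x ∈ W ∧ ∃ g : Fin k → Γ(X, W),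
      mres M hW s = ∑ i, g i • mres M (le_top : W ≤ ⊤) (m i)) →
    ∃ g : Fin k → Γ(X, P), s = ∑ i, g i • mres M (le_top : P ≤ ⊤) (m i) := by
  intro k
  induction k with
  | zero =>
    intro M hM m s hs
    refine ⟨fun i => i.elim0, ?_⟩
    choose W hWP hxW g hg using hs
    rw [Finset.univ_eq_empty, Finset.sum_empty]
    refine eq_of_iSup_le M (fun x : P => W x.1 x.2) (fun x => hWP x.1 x.2)
      (fun x hx => Opens.mem_iSup.2 ⟨⟨x, hx⟩, hxW x hx⟩) _ _ fun x => ?_
    rw [hg x.1 x.2, Finset.univ_eq_empty, Finset.sum_empty, map_zero]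
  | succ k ih =>
    intro M hM m s hs
    let ψ := mulSec M (m (Fin.last k))
    have hO : (Coh.structureModule X).IsQuasicoherent := AssPts.isQuasicoherent_structureModule X
    have hM' : (cokernel ψ).IsQuasicoherent := isQuasicoherent_cokernel ψ hO hM
    have hψ0 : ∀ (W : X.Opens) (r : Γ(X, W)), (cokernel.π ψ).app W (ψ.app W r) = 0 := fun W r => by
      rw [← ConcreteCategory.comp_apply, ← Scheme.Modules.Hom.comp_app, cokernel.condition]
      rfl
    obtain ⟨g, hg⟩ := ih (cokernel ψ) hM' (fun i => (cokernel.π ψ).app ⊤ (m i.castSucc))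
      ((cokernel.π ψ).app P s) (fun x hx => by
        obtain ⟨W, hWP, hxW, g, hg⟩ := hs x hx
        refine ⟨W, hWP, hxW, fun i => g i.castSucc, ?_⟩
        rw [app_nat, hg, map_sum, Fin.sum_univ_castSucc]
        have hlast : (cokernel.π ψ).app W (g (Fin.last k) • mres M (le_top : W ≤ ⊤) (m (Fin.last k))) = 0 := by
          rw [← mulSec_app]; exact hψ0 W _
        rw [hlast, add_zero]
        refine Finset.sum_congr rfl fun i _ => ?_
        rw [Scheme.Modules.Hom.app_smul, app_nat])
    let t := s - ∑ i, g i • mres M (le_top : P ≤ ⊤) (m i.castSucc)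
    have ht : (cokernel.π ψ).app P t = 0 := by
      simp only [t, map_sub, map_sum, Scheme.Modules.Hom.app_smul, ← app_nat]
      rw [hg, sub_self]
    let T₁ : ShortComplex X.Modules := ShortComplex.mk (kernel.ι (cokernel.π ψ)) (cokernel.π ψ)
      (kernel.condition _)
    haveI : Mono T₁.f := inferInstanceAs (Mono (kernel.ι _))
    obtain ⟨t', ht'⟩ := sections_exact_left (T := T₁)
      (ShortComplex.exact_of_f_is_kernel _ (kernelIsKernel _)) (U := P) t ht
    let T₂ : ShortComplex X.Modules := ShortComplex.mk (kernel.ι ψ) (Abelian.factorThruImage ψ)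
      (by rw [← cancel_mono (Abelian.image.ι ψ), Category.assoc, Abelian.image.fac, kernel.condition,
        zero_comp])
    have hT₂ : T₂.ShortExact :=
      { exact := ShortComplex.exact_of_f_is_kernel _ (KernelFork.IsLimit.ofι _ _
          (fun {W} a ha => kernel.lift ψ a (by rw [← Abelian.image.fac ψ, ← Category.assoc, ha, zero_comp]))
          (fun a ha => kernel.lift_ι _ _ _)
          (fun a ha b hb => by
            rw [← cancel_mono (kernel.ι ψ), kernel.lift_ι]; exact hb))
        mono_f := inferInstanceAs (Mono (kernel.ι ψ))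
        epi_g := inferInstanceAs (Epi (Abelian.factorThruImage ψ)) }
    obtain ⟨r, hr⟩ := h T₂ hT₂ (kernel.ι ψ) inferInstance (isQuasicoherent_kernel ψ hO hM) t'
    have hrt : ψ.app P r = t := by
      rw [← ht', ← hr]
      show _ = (Abelian.image.ι ψ).app P ((Abelian.factorThruImage ψ).app P r)
      rw [← ConcreteCategory.comp_apply, ← Scheme.Modules.Hom.comp_app, Abelian.image.fac]
    refine ⟨Fin.lastCases r g, ?_⟩
    rw [Fin.sum_univ_castSucc]
    simp only [Fin.lastCases_last, Fin.lastCases_castSucc]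
    erw [mulSec_app] at hrt
    rw [hrt]
    simp only [t]
    abel

/-- a point closed in `P` has an affine principal neighbourhood -/
theorem exists_affine_basicOpen_on (h : IdealExactOn P) (x : X) (hxP : x ∈ P)
    (hx : ∀ y ∈ P, x ⤳ y → y = x) :
    ∃ f : Γ(X, P), x ∈ X.basicOpen f ∧ IsAffineOpen (X.basicOpen f) := by
  obtain ⟨U, hU, hxU, hUP⟩ := Opens.isBasis_iff_nbhd.1 X.isBasis_affineOpens hxP
  let Z : Closeds X := ⟨(U : Set X)ᶜ, U.2.isClosed_compl⟩
  let Z' : Closeds X := ⟨(U : Set X)ᶜ ∪ closure {x}, U.2.isClosed_compl.union isClosed_closure⟩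
  have hZ : Z ≤ Z' := fun z hz => Or.inl hz
  let V : X.Opens := ⟨(closure ({x} : Set X))ᶜ, isClosed_closure.isOpen_compl⟩
  let T : ShortComplex X.Modules := ShortComplex.mk (idlMap hZ) (cokernel.π _) (cokernel.condition _)
  have hT : T.ShortExact :=
    { exact := ShortComplex.exact_of_g_is_cokernel _ (cokernelIsCokernel _)
      mono_f := inferInstanceAs (Mono (idlMap hZ))
      epi_g := inferInstanceAs (Epi (cokernel.π _)) }
  have hkill : ∀ (W : X.Opens) (t : Γ(T.X₂, W)),
      (∀ z ∈ Z', z ∉ X.basicOpen (show Γ(X, W) from (idlι Z).app W t)) → T.g.app W t = 0 := by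
    intro W t ht
    obtain ⟨a, ha⟩ := (exists_idl_iff Z' W _).2 ht
    have hta : T.f.app W a = t := by
      apply app_injective_of_mono (idlι Z)
      rw [← ConcreteCategory.comp_apply, ← Scheme.Modules.Hom.comp_app]
      show (idlMap hZ ≫ idlι Z).app W a = _
      rw [idlMap_ι]; exact ha
    rw [← hta, ← ConcreteCategory.comp_apply, ← Scheme.Modules.Hom.comp_app, T.zero]
    rfl
  have hQV : ∀ (W : X.Opens), W ≤ V → ∀ q : Γ(T.X₃, W), q = 0 := by
    intro W hW q
    choose A hA hxA hAW using fun y : W => Opens.isBasis_iff_nbhd.1 X.isBasis_affineOpens y.2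
    refine eq_of_iSup_le T.X₃ A hAW (fun y hy => Opens.mem_iSup.2 ⟨⟨y, hy⟩, hxA ⟨y, hy⟩⟩) _ _ fun y => ?_
    rw [map_zero]
    obtain ⟨t, ht⟩ := sections_surjective_affine hT (isQCoh_idl Z') (hA y) (mres T.X₃ (hAW y) q)
    rw [← ht]
    refine hkill _ t fun z hz hz' => ?_
    rcases hz with hz | hz
    · exact (exists_idl_iff Z _ _).1 ⟨t, rfl⟩ z hz hz'
    · exact hW (hAW y (X.basicOpen_le _ hz')) hz
  obtain ⟨t₁, ht₁⟩ := (exists_idl_iff Z U (1 : Γ(X, U))).2 fun z hz hz' => hz (X.basicOpen_le _ hz')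
  let Vf : ULift.{u} Bool → X.Opens := fun b => if b.down then U else P ⊓ V
  let qf : ∀ b, Γ(T.X₃, Vf b) := fun b =>
    match b with
    | ⟨true⟩ => T.g.app U t₁
    | ⟨false⟩ => 0
  obtain ⟨q, hq, -⟩ := TopCat.Sheaf.existsUnique_gluing' ⟨T.X₃.presheaf, T.X₃.isSheaf⟩ Vf P
    (fun b => homOfLE (by rcases b with ⟨_ | _⟩ <;> [exact inf_le_left; exact hUP]))
    (fun y hy => Opens.mem_iSup.2 (by
      by_cases hyU : y ∈ U
      · exact ⟨⟨true⟩, hyU⟩
      · refine ⟨⟨false⟩, hy, fun hcl => hyU ?_⟩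
        rw [hx y hy (specializes_iff_mem_closure.2 hcl)]
        exact hxU)) qf (by
      rintro ⟨_ | _⟩ ⟨_ | _⟩
      · rfl
      · exact (hQV _ (inf_le_left.trans inf_le_right) _).trans (hQV _ (inf_le_left.trans inf_le_right) _).symm
      · exact (hQV _ (inf_le_right.trans inf_le_right) _).trans (hQV _ (inf_le_right.trans inf_le_right) _).symm
      · rfl)
  obtain ⟨f', hf'⟩ := h T hT (idlι Z') inferInstance (isQCoh_idl Z') q
  let f : Γ(X, P) := (idlι Z).app P f'
  have hle : X.basicOpen f ≤ U := fun z hz => by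
    by_contra hzU
    exact (exists_idl_iff Z P f).1 ⟨f', rfl⟩ z hzU hz
  have hker : T.g.app U (mres T.X₂ hUP f' - t₁) = 0 := by
    rw [map_sub, ← app_nat, hf', sub_eq_zero]
    exact hq ⟨true⟩
  obtain ⟨a, ha⟩ := sections_exact_left (T := T) (hT.exact) (U := U) _ hker
  have hxf : x ∈ X.basicOpen f := by
    have h1 := (exists_idl_iff Z' U (ores hUP f - 1)).1 ⟨a, by
      have h2 := congrArg ((idlι Z).app U) ha
      rw [← ConcreteCategory.comp_apply, ← Scheme.Modules.Hom.comp_app, map_sub, ← app_nat, ht₁] at h2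
      rw [← idlMap_ι hZ]; exact h2⟩ x (Or.inr (subset_closure rfl))
    rw [Scheme.mem_basicOpen _ _ x hxU] at h1
    rw [Scheme.mem_basicOpen _ _ x hxP]
    have he : X.presheaf.germ U x hxU (ores hUP f) = X.presheaf.germ P x hxP f :=
      TopCat.Presheaf.germ_res_apply _ _ _ _ _
    rw [map_sub, map_one, he] at h1
    by_contra hnot
    exact h1 (IsLocalRing.isUnit_one_sub_self_of_mem_nonunits _ hnot |>.neg |> fun h3 => by simpa using h3)
  refine ⟨f, hxf, ?_⟩
  have := hU.basicOpen (ores hUP f)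
  rwa [basicOpen_ores, inf_eq_right.2 hle] at this

/-- the relative criterion -/
theorem isAffineOpen_of_idealExactOn (hP : IsCompact (P : Set X)) [QuasiSeparatedSpace X]
    (h : IdealExactOn P) : IsAffineOpen P := by
  haveI : CompactSpace P.toScheme := isCompact_iff_compactSpace.1 hP
  let G : Set X := ⋃ f : {f : Γ(X, P) // IsAffineOpen (X.basicOpen f)}, (X.basicOpen f.1 : Set X)
  have hG : (P : Set X) ⊆ G := by
    by_contra hne
    obtain ⟨y, hyP, hyG⟩ := Set.not_subset.1 hne
    have hGo : IsOpen G := isOpen_iUnion fun f : {f : Γ(X, P) // IsAffineOpen (X.basicOpen f)} => (X.basicOpen f.1).2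
    haveI : T0Space (P : Set X) := Subtype.t0Space
    haveI : CompactSpace (P : Set X) := isCompact_iff_compactSpace.1 hP
    obtain ⟨⟨x, hxP⟩, hxG, hx⟩ := IsClosed.exists_closed_singleton (X := (P : Set X))
      (S := {p : (P : Set X) | p.1 ∉ G}) (hGo.preimage continuous_subtype_val).isClosed_compl ⟨⟨y, hyP⟩, hyG⟩
    obtain ⟨f, hxf, hf⟩ := exists_affine_basicOpen_on h x hxP fun z hz hxz => by
      have h1 : (⟨x, hxP⟩ : (P : Set X)) ⤳ ⟨z, hz⟩ := Topology.IsInducing.subtypeVal.specializes_iff.1 hxz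
      exact congrArg Subtype.val (Set.mem_singleton_iff.1 (h1.mem_closed hx rfl))
    exact hxG (Set.mem_iUnion.2 ⟨⟨f, hf⟩, hxf⟩)
  obtain ⟨t, ht⟩ := hP.elim_finite_subcover _
    (fun f : {f : Γ(X, P) // IsAffineOpen (X.basicOpen f)} => (X.basicOpen f.1).2) hG
  let e := t.equivFin.symm
  haveI hN : ((Scheme.Modules.pushforward P.ι).obj (Coh.structureModule P.toScheme)).IsQuasicoherent :=
    haveI := AssPts.isQuasicoherent_structureModule P.toScheme
    isQuasicoherent_pushforward _ _
  let N := (Scheme.Modules.pushforward P.ι).obj (Coh.structureModule P.toScheme)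
  have hlePre : P.ι ⁻¹ᵁ (⊤ : X.Opens) ≤ P.ι ⁻¹ᵁ P := fun p _ => p.2
  let m : Fin t.card → Γ(N, (⊤ : X.Opens)) := fun i => P.ι.appLE P (P.ι ⁻¹ᵁ ⊤) hlePre (e i).1.1
  have hm : ∀ (W : X.Opens) (hW : W ≤ P) i, mres N (le_top : W ≤ ⊤) (m i) = P.ι.app W (ores hW (e i).1.1) := by
    intro W hW i
    show P.toScheme.presheaf.map _ (P.ι.appLE P _ hlePre _) = _
    rw [← ConcreteCategory.comp_apply, Scheme.Hom.appLE_map]
    show _ = P.ι.app W (X.presheaf.map (homOfLE hW).op _)
    rw [← ConcreteCategory.comp_apply, Scheme.Hom.app_eq_appLE, Scheme.Hom.map_appLE]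
  obtain ⟨g, hg⟩ := mem_span_on h t.card N hN m (P.ι.app P 1) (fun x hx => by
      obtain ⟨f, hf, hxf⟩ := Set.mem_iUnion₂.1 (ht hx)
      refine ⟨X.basicOpen f.1, X.basicOpen_le _, hxf, ?_⟩
      have hu : IsUnit (ores (X.basicOpen_le f.1) f.1) := RingedSpace.isUnit_res_basicOpen _ f.1
      refine ⟨Function.update 0 (e.symm ⟨f, hf⟩) hu.unit⁻¹.1, ?_⟩
      rw [Finset.sum_eq_single (e.symm ⟨f, hf⟩)]
      · rw [Function.update_self, hm _ (X.basicOpen_le _), Equiv.apply_symm_apply]
        show P.toScheme.presheaf.map _ (P.ι.app P 1) =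
          P.ι.app (X.basicOpen f.1) hu.unit⁻¹.1 * P.ι.app (X.basicOpen f.1) (ores (X.basicOpen_le f.1) f.1)
        rw [← map_mul, IsUnit.val_inv_mul, map_one, map_one, map_one]
      · intro b _ hb
        rw [Function.update_of_ne hb, Pi.zero_apply, zero_smul]
      · simp)
  have hbij : Function.Injective (P.ι.app P) := by
    have := P.ι.isIso_app P (by simp)
    exact (ConcreteCategory.bijective_of_isIso (P.ι.app P)).1
  have h1 : (1 : Γ(X, P)) = ∑ i, g i * (e i).1.1 := by
    apply hbij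
    refine hg.trans ?_
    rw [map_sum]
    refine Finset.sum_congr rfl fun i _ => ?_
    rw [hm P le_rfl i, map_mul]
    show P.ι.app P (g i) * P.ι.app P _ = _
    rw [show ores (le_refl P) (e i).1.1 = (e i).1.1 by simp [ores]]
  refine isAffineOpen_of_isAffineOpen_basicOpen P (Set.range fun i => (e i).1.1) ?_ ?_
  · rw [Ideal.eq_top_iff_one, h1]
    exact Submodule.sum_mem _ fun i _ => Ideal.mul_mem_left _ _ (Ideal.subset_span ⟨i, rfl⟩)
  · rintro _ ⟨i, rfl⟩
    exact (e i).1.2

end Groth.Agent.SerreAff
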