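import Mathlib
import Groth.Prelude.Def_Coh
import Groth.Prelude.Def_ClSub2
import Groth.Agent.QCohBase.Exact
import Groth.Agent.QCohBase.Qcqs
import Groth.Agent.AssPts.Structure
import Groth.Agent.FpqcDescent.ReducedSub

/-!
# Serre's criterion of affineness
-/

noncomputable section

universe u

open CategoryTheory Limits AlgebraicGeometry Opposite TopologicalSpace Groth.Agent.QCohBase

namespace Groth.Agent.SerreAff

variable {X : Scheme.{u}}

/-- vanishing of `H¹` gives surjectivity on global sections -/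
lemma sections_surjective_of_H1 {T : ShortComplex X.Modules} (hT : T.ShortExact)
    (h : Subsingleton (Coh.HH X T.X₁ 1)) : Function.Surjective (T.g.app ⊤) := fun s =>
  (CovSystem.hDelta_zero_iff (toAb_shortExact hT) (show (Coh.toAb T.X₃).obj.obj (op ⊤) from s)).1
    (@Subsingleton.elim _ h _ _)

/-- multiplication by a global section -/
def mulSec (M : X.Modules) (m : Γ(M, (⊤ : X.Opens))) : Coh.structureModule X ⟶ M :=
  (SheafOfModules.unitHomEquiv M).symm
    ⟨fun V => mres M (le_top : V.unop ≤ ⊤) m, fun {V W} i => mres_mres M le_top i.unop.le m⟩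

lemma mulSec_app (M : X.Modules) (m : Γ(M, (⊤ : X.Opens))) (W : X.Opens) (r : Γ(X, W)) :
    (mulSec M m).app W r = r • mres M (le_top : W ≤ ⊤) m := by
  have h1 : (mulSec M m).app W (1 : Γ(X, W)) = mres M (le_top : W ≤ ⊤) m :=
    congrArg (fun σ : M.sections => σ.val (op W)) ((SheafOfModules.unitHomEquiv M).apply_symm_apply _)
  have h2 := Scheme.Modules.Hom.app_smul (mulSec M m) (U := W) r
    (show Γ(Coh.structureModule X, W) from (1 : Γ(X, W)))
  erw [h1] at h2
  refine Eq.trans ?_ h2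
  congr 1
  exact (mul_one r).symm

/-- `H¹` of every quasi-coherent ideal vanishes -/
def H1Ideals (X : Scheme.{u}) : Prop :=
  ∀ (I : X.Modules) (i : I ⟶ Coh.structureModule X), Mono i → Coh.IsQCoh I → Subsingleton (Coh.HH X I 1)

/-- a section which is locally in the span of given global sections is globally in it -/
theorem mem_span_of_locally (h : H1Ideals X) : ∀ (k : ℕ) (M : X.Modules) (_ : M.IsQuasicoherent)
    (m : Fin k → Γ(M, (⊤ : X.Opens))) (s : Γ(M, (⊤ : X.Opens))),
    (∀ x : X, ∃ W : X.Opens, x ∈ W ∧ ∃ g : Fin k → Γ(X, W),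
      mres M (le_top : W ≤ ⊤) s = ∑ i, g i • mres M (le_top : W ≤ ⊤) (m i)) →
    ∃ g : Fin k → Γ(X, ⊤), s = ∑ i, g i • m i := by
  intro k
  induction k with
  | zero =>
    intro M hM m s hs
    refine ⟨fun i => i.elim0, ?_⟩
    choose W hxW g hg using hs
    rw [Finset.univ_eq_empty, Finset.sum_empty]
    refine eq_of_iSup_le M W (fun x => le_top) (fun x _ => Opens.mem_iSup.2 ⟨x, hxW x⟩) _ _ fun x => ?_
    rw [hg x, Finset.univ_eq_empty, Finset.sum_empty, map_zero]
  | succ k ih =>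
    intro M hM m s hs
    let ψ := mulSec M (m (Fin.last k))
    have hO : (Coh.structureModule X).IsQuasicoherent := AssPts.isQuasicoherent_structureModule X
    have hM' : (cokernel ψ).IsQuasicoherent := isQuasicoherent_cokernel ψ hO hM
    have hψ0 : ∀ (W : X.Opens) (r : Γ(X, W)), (cokernel.π ψ).app W (ψ.app W r) = 0 := fun W r => by
      rw [← ConcreteCategory.comp_apply, ← Scheme.Modules.Hom.comp_app, cokernel.condition]
      rfl
    obtain ⟨g, hg⟩ := ih (cokernel ψ) hM' (fun i => (cokernel.π ψ).app ⊤ (m i.castSucc))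
      ((cokernel.π ψ).app ⊤ s) (fun x => by
        obtain ⟨W, hxW, g, hg⟩ := hs x
        refine ⟨W, hxW, fun i => g i.castSucc, ?_⟩
        rw [app_nat, hg, map_sum, Fin.sum_univ_castSucc]
        have hlast : (cokernel.π ψ).app W (g (Fin.last k) • mres M (le_top : W ≤ ⊤) (m (Fin.last k))) = 0 := by
          rw [← mulSec_app]; exact hψ0 W _
        rw [hlast, add_zero]
        refine Finset.sum_congr rfl fun i _ => ?_
        rw [Scheme.Modules.Hom.app_smul, app_nat])
    let t := s - ∑ i, g i • m i.castSucc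
    have ht : (cokernel.π ψ).app ⊤ t = 0 := by
      simp only [t, map_sub, map_sum, Scheme.Modules.Hom.app_smul]
      rw [hg, sub_self]
    let T₁ : ShortComplex X.Modules := ShortComplex.mk (kernel.ι (cokernel.π ψ)) (cokernel.π ψ)
      (kernel.condition _)
    haveI : Mono T₁.f := inferInstanceAs (Mono (kernel.ι _))
    obtain ⟨t', ht'⟩ := sections_exact_left (T := T₁)
      (ShortComplex.exact_of_f_is_kernel _ (kernelIsKernel _)) (U := ⊤) t ht
    let T₂ : ShortComplex X.Modules := ShortComplex.mk (kernel.ι ψ) (Abelian.factorThruImage ψ)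
      (by rw [← cancel_mono (Abelian.image.ι ψ), Category.assoc, Abelian.image.fac, kernel.condition,
        zero_comp])
    have hT₂ : T₂.ShortExact :=
      { exact := ShortComplex.exact_of_f_is_kernel _ (KernelFork.IsLimit.ofι _ _
          (fun {W} a ha => kernel.lift ψ a (by rw [← Abelian.image.fac ψ, ← Category.assoc, ha, zero_comp]))
          (fun a ha => kernel.lift_ι _ _ _)
          (fun a ha b hb => by
            rw [← cancel_mono (kernel.ι ψ), kernel.lift_ι]; exact hb))
        mono_f := inferInstanceAs (Mono (kernel.ι ψ))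
        epi_g := inferInstanceAs (Epi (Abelian.factorThruImage ψ)) }
    obtain ⟨r, hr⟩ := sections_surjective_of_H1 hT₂
      (h (kernel ψ) (kernel.ι ψ) inferInstance (isQuasicoherent_kernel ψ hO hM)) t'
    have hrt : ψ.app ⊤ r = t := by
      rw [← ht', ← hr]
      show _ = (Abelian.image.ι ψ).app ⊤ ((Abelian.factorThruImage ψ).app ⊤ r)
      rw [← ConcreteCategory.comp_apply, ← Scheme.Modules.Hom.comp_app, Abelian.image.fac]
    refine ⟨Fin.lastCases r g, ?_⟩
    rw [Fin.sum_univ_castSucc]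
    simp only [Fin.lastCases_last, Fin.lastCases_castSucc]
    erw [mulSec_app] at hrt
    rw [show mres M (le_top : (⊤ : X.Opens) ≤ ⊤) (m (Fin.last k)) = m (Fin.last k) from mres_refl M _ _] at hrt
    rw [hrt]
    simp only [t]
    abel

/-- the reduced ideal sheaf of a closed set, as a module -/
abbrev idl (Z : Closeds X) : X.Modules := ClSub.idealMod (Scheme.IdealSheafData.vanishingIdeal Z)

/-- its inclusion -/
abbrev idlι (Z : Closeds X) : idl Z ⟶ Coh.structureModule X :=
  ClSub.idealModι (Scheme.IdealSheafData.vanishingIdeal Z)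

instance (Z : Closeds X) : Mono (idlι Z) := inferInstanceAs (Mono (kernel.ι _))

lemma isQCoh_idl (Z : Closeds X) : (idl Z).IsQuasicoherent :=
  isQuasicoherent_kernel _ (AssPts.isQuasicoherent_structureModule X)
    (by
      haveI := AssPts.isQuasicoherent_structureModule (Scheme.IdealSheafData.vanishingIdeal Z).subscheme
      exact isQuasicoherent_pushforward _ _)

lemma app_eq_zero_iff (Z : Closeds X) (W : X.Opens) (s : Γ(X, W)) :
    (Scheme.IdealSheafData.vanishingIdeal Z).subschemeι.app W s = 0 ↔ ∀ z ∈ Z, z ∉ X.basicOpen s := by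
  rw [← basicOpen_eq_bot_iff, ← Scheme.preimage_basicOpen]
  have hr : Set.range (Scheme.IdealSheafData.vanishingIdeal Z).subschemeι = Z := by
    rw [Scheme.IdealSheafData.range_subschemeι, Scheme.IdealSheafData.coe_support_vanishingIdeal]
  constructor
  · intro h z hz hz'
    obtain ⟨w, rfl⟩ : z ∈ Set.range (Scheme.IdealSheafData.vanishingIdeal Z).subschemeι := hr.symm ▸ hz
    exact (h.le hz' : w ∈ (⊥ : Opens _))
  · intro h
    refine eq_bot_iff.2 fun w hw => h _ ?_ hw
    exact hr.le ⟨w, rfl⟩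

lemma exists_idl_iff (Z : Closeds X) (W : X.Opens) (s : Γ(X, W)) :
    (∃ t, (idlι Z).app W t = s) ↔ ∀ z ∈ Z, z ∉ X.basicOpen s := by
  rw [← app_eq_zero_iff]
  constructor
  · rintro ⟨t, rfl⟩
    have h := congrArg (fun φ => φ.app W t) (kernel.condition (ClSub.toSubscheme (Scheme.IdealSheafData.vanishingIdeal Z)))
    exact h
  · intro hs
    let T : ShortComplex X.Modules := ShortComplex.mk (idlι Z) _ (kernel.condition _)
    haveI : Mono T.f := inferInstanceAs (Mono (idlι Z))
    exact sections_exact_left (T := T) (ShortComplex.exact_of_f_is_kernel _ (kernelIsKernel _)) s hs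

lemma idl_comp_eq_zero {Z Z' : Closeds X} (h : Z ≤ Z') :
    idlι Z' ≫ ClSub.toSubscheme (Scheme.IdealSheafData.vanishingIdeal Z) = 0 := by
  ext W t
  exact (app_eq_zero_iff Z W _).2 fun z hz => (exists_idl_iff Z' W _).1 ⟨t, rfl⟩ z (h hz)

/-- inclusion of ideals -/
def idlMap {Z Z' : Closeds X} (h : Z ≤ Z') : idl Z' ⟶ idl Z :=
  kernel.lift _ (idlι Z') (idl_comp_eq_zero h)

lemma idlMap_ι {Z Z' : Closeds X} (h : Z ≤ Z') : idlMap h ≫ idlι Z = idlι Z' := kernel.lift_ι _ _ _

instance {Z Z' : Closeds X} (h : Z ≤ Z') : Mono (idlMap h) := by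
  haveI : Mono (idlMap h ≫ idlι Z) := by rw [idlMap_ι]; infer_instance
  exact mono_of_mono _ (idlι Z)

/-- a closed point has an affine principal neighbourhood -/
theorem exists_affine_basicOpen (h : H1Ideals X) (x : X) (hx : IsClosed ({x} : Set X)) :
    ∃ f : Γ(X, ⊤), x ∈ X.basicOpen f ∧ IsAffineOpen (X.basicOpen f) := by
  obtain ⟨U, hU, hxU, -⟩ := Opens.isBasis_iff_nbhd.1 X.isBasis_affineOpens (Opens.mem_top x)
  let Z : Closeds X := ⟨(U : Set X)ᶜ, U.2.isClosed_compl⟩
  let Z' : Closeds X := ⟨(U : Set X)ᶜ ∪ {x}, U.2.isClosed_compl.union hx⟩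
  have hZ : Z ≤ Z' := fun z hz => Or.inl hz
  let V : X.Opens := ⟨({x} : Set X)ᶜ, hx.isOpen_compl⟩
  let T : ShortComplex X.Modules := ShortComplex.mk (idlMap hZ) (cokernel.π _) (cokernel.condition _)
  have hT : T.ShortExact :=
    { exact := ShortComplex.exact_of_g_is_cokernel _ (cokernelIsCokernel _)
      mono_f := inferInstanceAs (Mono (idlMap hZ))
      epi_g := inferInstanceAs (Epi (cokernel.π _)) }
  have hkill : ∀ (W : X.Opens) (t : Γ(T.X₂, W)),
      (∀ z ∈ Z', z ∉ X.basicOpen (show Γ(X, W) from (idlι Z).app W t)) → T.g.app W t = 0 := by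
    intro W t ht
    obtain ⟨a, ha⟩ := (exists_idl_iff Z' W _).2 ht
    have hta : T.f.app W a = t := by
      apply app_injective_of_mono (idlι Z)
      rw [← ConcreteCategory.comp_apply, ← Scheme.Modules.Hom.comp_app]
      show (idlMap hZ ≫ idlι Z).app W a = _
      rw [idlMap_ι]; exact ha
    rw [← hta, ← ConcreteCategory.comp_apply, ← Scheme.Modules.Hom.comp_app, T.zero]
    rfl
  have hQV : ∀ (W : X.Opens), W ≤ V → ∀ q : Γ(T.X₃, W), q = 0 := by
    intro W hW q
    choose A hA hxA hAW using fun y : W => Opens.isBasis_iff_nbhd.1 X.isBasis_affineOpens y.2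
    refine eq_of_iSup_le T.X₃ A hAW (fun y hy => Opens.mem_iSup.2 ⟨⟨y, hy⟩, hxA ⟨y, hy⟩⟩) _ _ fun y => ?_
    rw [map_zero]
    obtain ⟨t, ht⟩ := sections_surjective_affine hT (isQCoh_idl Z') (hA y) (mres T.X₃ (hAW y) q)
    rw [← ht]
    refine hkill _ t fun z hz hz' => ?_
    rcases hz with hz | rfl
    · exact (exists_idl_iff Z _ _).1 ⟨t, rfl⟩ z hz hz'
    · exact hW (hAW y (X.basicOpen_le _ hz')) rfl
  obtain ⟨t₁, ht₁⟩ := (exists_idl_iff Z U (1 : Γ(X, U))).2 fun z hz hz' => hz (X.basicOpen_le _ hz')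
  let Vf : ULift.{u} Bool → X.Opens := fun b => if b.down then U else V
  let qf : ∀ b, Γ(T.X₃, Vf b) := fun b =>
    match b with
    | ⟨true⟩ => T.g.app U t₁
    | ⟨false⟩ => 0
  obtain ⟨q, hq, -⟩ := TopCat.Sheaf.existsUnique_gluing' ⟨T.X₃.presheaf, T.X₃.isSheaf⟩ Vf ⊤
    (fun b => homOfLE le_top) (fun y _ => Opens.mem_iSup.2 (by
      rcases eq_or_ne y x with rfl | hy
      · exact ⟨⟨true⟩, hxU⟩
      · exact ⟨⟨false⟩, hy⟩)) qf (by
      rintro ⟨_ | _⟩ ⟨_ | _⟩
      · rfl
      · exact (hQV _ inf_le_left _).trans (hQV _ inf_le_left _).symm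
      · exact (hQV _ inf_le_right _).trans (hQV _ inf_le_right _).symm
      · rfl)
  obtain ⟨f', hf'⟩ := sections_surjective_of_H1 hT (h _ (idlι Z') inferInstance (isQCoh_idl Z')) q
  let f : Γ(X, ⊤) := (idlι Z).app ⊤ f'
  have hle : X.basicOpen f ≤ U := fun z hz => by
    by_contra hzU
    exact (exists_idl_iff Z ⊤ f).1 ⟨f', rfl⟩ z hzU hz
  have hker : T.g.app U (mres T.X₂ (le_top : U ≤ ⊤) f' - t₁) = 0 := by
    rw [map_sub, ← app_nat, hf', sub_eq_zero]
    exact hq ⟨true⟩
  obtain ⟨a, ha⟩ := sections_exact_left (T := T) (hT.exact) (U := U) _ hker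
  have hxf : x ∈ X.basicOpen f := by
    have h1 := (exists_idl_iff Z' U (ores (le_top : U ≤ ⊤) f - 1)).1 ⟨a, by
      have h2 := congrArg ((idlι Z).app U) ha
      rw [← ConcreteCategory.comp_apply, ← Scheme.Modules.Hom.comp_app, map_sub, ← app_nat, ht₁] at h2
      rw [← idlMap_ι hZ]; exact h2⟩ x (Or.inr rfl)
    rw [Scheme.mem_basicOpen _ _ x hxU] at h1
    rw [Scheme.mem_basicOpen _ _ x (Opens.mem_top x)]
    have he : X.presheaf.germ U x hxU (ores (le_top : U ≤ ⊤) f) = X.presheaf.germ ⊤ x trivial f :=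
      TopCat.Presheaf.germ_res_apply _ _ _ _ _
    rw [map_sub, map_one, he] at h1
    by_contra hnot
    exact h1 (IsLocalRing.isUnit_one_sub_self_of_mem_nonunits _ hnot |>.neg |> fun h3 => by simpa using h3)
  refine ⟨f, hxf, ?_⟩
  have := hU.basicOpen (ores (le_top : U ≤ ⊤) f)
  rwa [basicOpen_ores, inf_eq_right.2 hle] at this

/-- Serre's criterion. -/
theorem isAffine_of_H1Ideals [CompactSpace X] (h : H1Ideals X) : IsAffine X := by
  let G : Set X := ⋃ f : {f : Γ(X, ⊤) // IsAffineOpen (X.basicOpen f)}, (X.basicOpen f.1 : Set X)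
  have hG : G = Set.univ := by
    by_contra hne
    have hc : IsClosed Gᶜ := (isOpen_iUnion fun f : {f : Γ(X, ⊤) // IsAffineOpen (X.basicOpen f)} => (X.basicOpen f.1).2).isClosed_compl
    obtain ⟨x, hxG, hx⟩ := hc.exists_closed_singleton (Set.nonempty_compl.2 hne)
    obtain ⟨f, hxf, hf⟩ := exists_affine_basicOpen h x hx
    exact hxG (Set.mem_iUnion.2 ⟨⟨f, hf⟩, hxf⟩)
  obtain ⟨t, ht⟩ := isCompact_univ.elim_finite_subcover _
    (fun f : {f : Γ(X, ⊤) // IsAffineOpen (X.basicOpen f)} => (X.basicOpen f.1).2) hG.ge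
  let e := t.equivFin.symm
  obtain ⟨g, hg⟩ := mem_span_of_locally h t.card (Coh.structureModule X)
    (AssPts.isQuasicoherent_structureModule X) (fun i => (e i).1.1) (show Γ(X, ⊤) from 1) (fun x => by
      obtain ⟨f, hf, hxf⟩ := Set.mem_iUnion₂.1 (ht (Set.mem_univ x))
      refine ⟨X.basicOpen f.1, hxf, ?_⟩
      have hu : IsUnit (ores (le_top : X.basicOpen f.1 ≤ ⊤) f.1) :=
        RingedSpace.isUnit_res_basicOpen _ f.1
      refine ⟨Function.update 0 (e.symm ⟨f, hf⟩) hu.unit⁻¹.1, ?_⟩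
      rw [Finset.sum_eq_single (e.symm ⟨f, hf⟩)]
      · rw [Function.update_self, Equiv.apply_symm_apply]
        show ores (le_top : X.basicOpen f.1 ≤ ⊤) 1 = hu.unit⁻¹.1 * ores (le_top : X.basicOpen f.1 ≤ ⊤) f.1
        rw [map_one, IsUnit.val_inv_mul]
      · intro b _ hb
        rw [Function.update_of_ne hb, Pi.zero_apply, zero_smul]
      · simp)
  refine isAffine_of_isAffineOpen_basicOpen (Set.range fun i => (e i).1.1) ?_ ?_
  · rw [Ideal.eq_top_iff_one]
    have : (1 : Γ(X, ⊤)) = ∑ i, g i * (e i).1.1 := hg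
    rw [this]
    exact Submodule.sum_mem _ fun i _ => Ideal.mul_mem_left _ _ (Ideal.subset_span ⟨i, rfl⟩)
  · rintro _ ⟨i, rfl⟩
    exact (e i).1.2

end Groth.Agent.SerreAff
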